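import Cfsg.Agent.H214.Coset
import Cfsg.Prelude.Def_KGroupFacts

/-!
# S3902: a prime `s ≡ 3 mod 4` dividing the order exactly once (helper214)
-/

set_option autoImplicit false

namespace Cfsg.Agent.H214.Coset

universe u v

variable {N : Type u} [Group N]

/-- Burnside's transfer theorem for simple groups. -/
theorem burnside [Finite N] [IsSimpleGroup N] (hna : ¬ IsMulCommutative N) {s : ℕ} [Fact s.Prime] (P : Sylow s N)
    (hs : s ∣ Nat.card N)
    (hP : Subgroup.normalizer ((P : Subgroup N) : Set N) ≤ Subgroup.centralizer ((P : Subgroup N) : Set N)) : False := by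
  have hc := MonoidHom.ker_transferSylow_isComplement' P hP
  rcases (MonoidHom.normal_ker (MonoidHom.transferSylow P hP)).eq_bot_or_eq_top with h1 | h1
  · rw [h1] at hc
    have h2 : (P : Subgroup N) = ⊤ := by
      have := hc.sup_eq_top
      rwa [bot_sup_eq] at this
    have h3 : IsMulCommutative (P : Subgroup N) := by
      have h4 := hP
      refine ⟨⟨fun a b => Subtype.ext ?_⟩⟩
      have h5 : (b : N) ∈ Subgroup.normalizer ((P : Subgroup N) : Set N) := Subgroup.le_normalizer b.2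
      exact (Subgroup.mem_centralizer_iff.1 (h4 h5) a a.2)
    apply hna
    refine ⟨⟨fun a b => ?_⟩⟩
    have ha : a ∈ (P : Subgroup N) := by rw [h2]; trivial
    have hb : b ∈ (P : Subgroup N) := by rw [h2]; trivial
    exact congrArg Subtype.val (h3.is_comm.comm ⟨a, ha⟩ ⟨b, hb⟩)
  · have h2 := MonoidHom.not_dvd_card_ker_transferSylow P hP
    rw [h1] at h2
    apply h2
    rw [Subgroup.card_top]
    exact hs

namespace AllR

/-- If `w` to the power `m` is inner then `r` divides `m`. -/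
theorem dvd_of_pow_mem {r : ℕ} {w : MulAut N} (h : AllR r w) {m : ℕ}
    (hm : w ^ m ∈ (MulAut.conj : N →* MulAut N).range) : r ∣ m := by
  obtain ⟨k, hk⟩ := h.orderOf_pow
  by_contra hcon
  have h1 : Nat.Coprime m (orderOf w) := by
    rw [hk]
    exact Nat.Coprime.pow_right _ ((Nat.Prime.coprime_iff_not_dvd h.prime).2 hcon).symm
  obtain ⟨j, hj⟩ := exists_pow_eq_self_of_coprime h1.symm.symm
  apply h.outer
  rw [← hj]
  exact pow_mem hm j

/-- If `|Out N| ≤ 2` then `r = 2`. -/
theorem eq_two_of_card {r : ℕ} {w : MulAut N} (h : AllR r w) (h2 : Nat.card (Cfsg.Out N) ≤ 2)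
    [Finite (Cfsg.Out N)] : r = 2 := by
  have h3 : (QuotientGroup.mk w : Cfsg.Out N) ^ Nat.card (Cfsg.Out N) = 1 := pow_card_eq_one'
  rw [← QuotientGroup.mk_pow, QuotientGroup.eq_one_iff] at h3
  have h4 := h.dvd_of_pow_mem (m := Nat.card (Cfsg.Out N)) h3
  have h5 : 0 < Nat.card (Cfsg.Out N) := Nat.card_pos
  have h6 := Nat.le_of_dvd h5 h4
  exact le_antisymm (h6.trans h2) h.prime.two_le

theorem false_of_card {r : ℕ} {w : MulAut N} (h : AllR r w) (h2 : Nat.card (Cfsg.Out N) = 1) : False := by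
  have h3 : Subsingleton (Cfsg.Out N) := (Nat.card_eq_one_iff_unique.1 h2).1
  have h4 : (QuotientGroup.mk w : Cfsg.Out N) = 1 := Subsingleton.elim _ _
  rw [QuotientGroup.eq_one_iff] at h4
  exact h.outer h4

/-- an element of order `s ≡ 3 mod 4` is inverted. -/
theorem inverts {w : MulAut N} (h : AllR 2 w) (hZ : ∀ x : N, (∀ y, x * y = y * x) → x = 1) {s : ℕ} (hs : s.Prime)
    (h4 : s % 4 = 3) {x : N} (hx : orderOf x = s) (hw : w x ∈ Subgroup.zpowers x) : w x = x⁻¹ := by
  have hF : Fact s.Prime := ⟨hs⟩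
  have hsp := hs.two_le
  obtain ⟨a, ha⟩ : ∃ a : ℕ, x ^ a = w x := by
    have hfin : IsOfFinOrder x := orderOf_pos_iff.1 (by rw [hx]; omega)
    obtain ⟨a, ha⟩ := (hfin.mem_powers_iff_mem_zpowers).2 hw
    exact ⟨a, ha⟩
  have hpow : ∀ j : ℕ, (w ^ j) x = x ^ a ^ j := by
    intro j
    induction j with
    | zero => rw [pow_zero, pow_zero, pow_one, MulAut.one_apply]
    | succ j ih => rw [pow_succ, MulAut.mul_apply, ← ha, map_pow, ih, ← pow_mul, pow_succ]
  obtain ⟨k, hk⟩ := h.orderOf_pow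
  have h1 : x ^ a ^ 2 ^ k = x ^ 1 := by
    rw [← hpow, ← hk, pow_orderOf_eq_one, MulAut.one_apply, pow_one]
  have h2 : (a : ZMod s) ^ 2 ^ k = 1 := by
    rw [pow_inj_mod, hx] at h1
    have h3 : ((a ^ 2 ^ k : ℕ) : ZMod s) = ((1 : ℕ) : ZMod s) := (ZMod.natCast_eq_natCast_iff _ _ _).2 h1
    rw [Nat.cast_pow, Nat.cast_one] at h3
    exact h3
  have ha0 : (a : ZMod s) ≠ 0 := by
    intro h0
    rw [h0, zero_pow (by positivity)] at h2
    exact zero_ne_one h2
  have h3 : (a : ZMod s) ^ (s - 1) = 1 := ZMod.pow_card_sub_one_eq_one ha0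
  have h5 : (a : ZMod s) ^ Nat.gcd (2 ^ k) (s - 1) = 1 := by
    rw [pow_gcd_eq_one]
    exact ⟨h2, h3⟩
  have h6 : Nat.gcd (2 ^ k) (s - 1) ∣ 2 := by
    have h7 : Nat.gcd (2 ^ k) (s - 1) ∣ 2 ^ k := Nat.gcd_dvd_left _ _
    obtain ⟨j, hj, e⟩ := (Nat.dvd_prime_pow Nat.prime_two).1 h7
    rw [e]
    have h8 : 2 ^ j ∣ s - 1 := by rw [← e]; exact Nat.gcd_dvd_right _ _
    have h9 : j ≤ 1 := by
      by_contra hj2
      push Not at hj2
      have : 2 ^ 2 ∣ s - 1 := dvd_trans (pow_dvd_pow 2 hj2) h8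
      omega
    exact (pow_dvd_pow 2 h9).trans (by norm_num)
  have h7 : (a : ZMod s) ^ 2 = 1 := by
    obtain ⟨c, hc⟩ := h6
    rw [hc, pow_mul, h5, one_pow]
  rw [sq] at h7
  rcases mul_self_eq_one_iff.1 h7 with h8 | h8
  · exfalso
    have h9 : a ≡ 1 [MOD s] := by
      rw [← ZMod.natCast_eq_natCast_iff, Nat.cast_one]
      exact h8
    have h10 : x ^ a = x ^ 1 := by rw [pow_inj_mod, hx]; exact h9
    have hx1 : x ≠ 1 := by
      rintro rfl
      rw [orderOf_one] at hx
      omega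
    refine h.not_fix hZ hx1 ?_ (by rw [← ha, h10, pow_one])
    rw [hx]
    refine (Nat.coprime_primes hs Nat.prime_two).2 ?_
    omega
  · have h9 : a ≡ s - 1 [MOD s] := by
      rw [← ZMod.natCast_eq_natCast_iff, Nat.cast_sub (by omega), Nat.cast_one, ZMod.natCast_self, zero_sub]
      exact h8
    have h10 : x ^ a = x ^ (s - 1) := by rw [pow_inj_mod, hx]; exact h9
    have h11 : x ^ (s - 1) * x = 1 := by
      rw [← pow_succ, show s - 1 + 1 = s by omega, ← hx, pow_orderOf_eq_one]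
    rw [← ha, h10]
    exact eq_inv_of_mul_eq_one_left h11

/-- **A prime `s ≡ 3 mod 4` which divides `|N|` exactly once excludes `r = 2`.** -/
theorem false_of_prime [Finite N] [IsSimpleGroup N] (hna : ¬ IsMulCommutative N) {w : MulAut N} (h : AllR 2 w)
    {s : ℕ} (hs : s.Prime) (h4 : s % 4 = 3) (hd : s ∣ Nat.card N) (hn : ¬ s ^ 2 ∣ Nat.card N) : False := by
  have hF : Fact s.Prime := ⟨hs⟩
  have hZ := center_triv hna
  obtain ⟨P⟩ : Nonempty (Sylow s N) := inferInstance
  have hcard : Nat.card (P : Subgroup N) = s := by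
    have h1 := Sylow.card_eq_multiplicity P
    have h2 : (Nat.card N).factorization s = 1 := by
      have h0 : Nat.card N ≠ 0 := Nat.card_pos.ne'
      apply le_antisymm
      · by_contra hcon
        push Not at hcon
        exact hn ((hs.pow_dvd_iff_le_factorization h0).2 hcon)
      · exact (hs.dvd_iff_one_le_factorization h0).1 hd
    rw [h2, pow_one] at h1
    exact h1
  obtain ⟨n, hn1⟩ := MulAction.exists_smul_eq N (w • P) P
  set v : MulAut N := MulAut.conj n * w with hv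
  have hvA : AllR 2 v := h.conj_mul n
  have hvP : ∀ y ∈ (P : Subgroup N), v y ∈ (P : Subgroup N) := by
    intro y hy
    have h1 : w y ∈ ((w • P : Sylow s N) : Subgroup N) := Subgroup.smul_mem_pointwise_smul _ w _ hy
    have h2 : n * w y * n⁻¹ ∈ ((n • (w • P) : Sylow s N) : Subgroup N) :=
      Subgroup.smul_mem_pointwise_smul _ (MulAut.conj n) _ h1
    rw [hn1] at h2
    exact h2
  refine burnside hna P hd fun m hm => ?_
  rw [Subgroup.mem_centralizer_iff]
  intro x hx
  by_cases hx1 : x = 1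
  · rw [hx1, one_mul, mul_one]
  have hxo : orderOf x = s := by
    have h1 : orderOf x ∣ s := by
      rw [← hcard]
      have h2 := orderOf_dvd_natCard (⟨x, hx⟩ : (P : Subgroup N))
      rwa [Subgroup.orderOf_mk] at h2
    exact ((Nat.dvd_prime hs).1 h1).resolve_left fun h3 => hx1 (orderOf_eq_one_iff.1 h3)
  have hxP : Subgroup.zpowers x = (P : Subgroup N) := by
    refine Subgroup.eq_of_le_of_card_ge (Subgroup.zpowers_le.2 hx) ?_
    rw [hcard, Nat.card_zpowers, hxo]
  have h1 : v x = x⁻¹ := hvA.inverts hZ hs h4 hxo (by rw [hxP]; exact hvP x hx)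
  have h2 : (MulAut.conj m * v) x = x⁻¹ := by
    refine (hvA.conj_mul m).inverts hZ hs h4 hxo ?_
    rw [hxP, MulAut.mul_apply, MulAut.conj_apply]
    exact (Subgroup.mem_normalizer_iff.1 hm _).1 (hvP x hx)
  rw [MulAut.mul_apply, h1, MulAut.conj_apply] at h2
  have h3 : m * x * m⁻¹ = x := by
    have := congrArg (fun y => y⁻¹) h2
    simpa [mul_assoc] using this
  rw [mul_inv_eq_iff_eq_mul] at h3
  exact h3.symm

end AllR

end Cfsg.Agent.H214.Coset
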