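import Mathlib

/-!
# Cosets of automorphisms consisting of elements of `r`-power order (helper214, S3902)

* `AllR r u` : `u` is not inner and every element of the coset `Inn(N) u` has `r`-power order;
* `exists_allR` : the hypothesis of S3902 gives a prime `r`;
* `AllR.not_isConj` : `u` moves the class of every element `x ≠ 1` of order prime to `r`;
* `AllR.congr` : transport, `AllR.conj_mul` : other representatives.
-/

set_option autoImplicit false

namespace Cfsg.Agent.H214.Coset

universe u v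

variable {N : Type u} [Group N]

/-- `w` is not inner and every element of the coset `Inn(N) w` has `r`-power order. -/
structure AllR (r : ℕ) (w : MulAut N) : Prop where
  prime : r.Prime
  outer : w ∉ (MulAut.conj : N →* MulAut N).range
  pow : ∀ n : N, ∃ k : ℕ, orderOf (MulAut.conj n * w) = r ^ k

theorem mul_conj (w : MulAut N) (n : N) : w * MulAut.conj n = MulAut.conj (w n) * w := by
  ext x
  simp [MulAut.mul_apply, MulAut.conj_apply]

/-- A common prime. -/
theorem exists_allR {w : MulAut N} (hw : w ∉ (MulAut.conj : N →* MulAut N).range)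
    (hcoset : ∀ n : N, IsPrimePow (orderOf (MulAut.conj n * w))) : ∃ r, AllR r w := by
  classical
  let I : Subgroup (MulAut N) := (MulAut.conj : N →* MulAut N).range
  have hI : I.Normal := by
    refine ⟨?_⟩
    rintro _ ⟨n, rfl⟩ g
    refine ⟨g n, ?_⟩
    rw [mul_conj, mul_inv_cancel_right]
  let q : MulAut N →* (MulAut N ⧸ I) := QuotientGroup.mk' I
  have hq : ∀ n : N, q (MulAut.conj n * w) = q w := by
    intro n
    rw [map_mul]
    have : q (MulAut.conj n) = 1 := (QuotientGroup.eq_one_iff _).2 ⟨n, rfl⟩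
    rw [this, one_mul]
  have hq1 : q w ≠ 1 := fun h => hw ((QuotientGroup.eq_one_iff _).1 h)
  obtain ⟨r, k, hr, hk, e⟩ := (isPrimePow_nat_iff _).1 (hcoset 1)
  have hdvd : ∀ n : N, orderOf (q w) ∣ orderOf (MulAut.conj n * w) := by
    intro n
    rw [← hq n]
    exact orderOf_map_dvd q _
  have h1 : orderOf (q w) ≠ 1 := by
    rw [Ne, orderOf_eq_one_iff]
    exact hq1
  have h2 : r ∣ orderOf (q w) := by
    have h3 := hdvd 1
    rw [← e] at h3
    obtain ⟨j, hj, ej⟩ := (Nat.dvd_prime_pow hr).1 h3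
    have hj0 : j ≠ 0 := by
      rintro rfl
      exact h1 (by rw [ej, pow_zero])
    rw [ej]
    exact dvd_pow_self r hj0
  refine ⟨r, hr, hw, fun n => ?_⟩
  obtain ⟨s, j, hs, hj, e'⟩ := (isPrimePow_nat_iff _).1 (hcoset n)
  have h3 : r ∣ s ^ j := by
    rw [e']
    exact dvd_trans h2 (hdvd n)
  have h4 : r = s := (Nat.prime_dvd_prime_iff_eq hr hs).1 (hr.dvd_of_dvd_pow h3)
  exact ⟨j, by rw [← e', h4]⟩

namespace AllR

variable {r : ℕ} {w : MulAut N}

/-- Another element of the coset. -/
theorem conj_mul (h : AllR r w) (n : N) : AllR r (MulAut.conj n * w) where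
  prime := h.prime
  outer := by
    rintro ⟨m, hm⟩
    apply h.outer
    refine ⟨n⁻¹ * m, ?_⟩
    rw [map_mul, hm, ← mul_assoc, ← map_mul, inv_mul_cancel, map_one, one_mul]
  pow m := by
    obtain ⟨k, hk⟩ := h.pow (m * n)
    exact ⟨k, by rw [← mul_assoc, ← map_mul]; exact hk⟩

theorem mul_conj (h : AllR r w) (n : N) : AllR r (w * MulAut.conj n) := by
  rw [Coset.mul_conj]
  exact h.conj_mul _

theorem orderOf_pow (h : AllR r w) : ∃ k, orderOf w = r ^ k := by
  obtain ⟨k, hk⟩ := h.pow 1
  rw [map_one, one_mul] at hk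
  exact ⟨k, hk⟩

theorem ne_one (h : AllR r w) : w ≠ 1 := by
  rintro rfl
  exact h.outer (one_mem _)

/-- `w` does not fix an element `x ≠ 1` of order prime to `r`. -/
theorem not_fix (h : AllR r w) (hZ : ∀ x : N, (∀ y, x * y = y * x) → x = 1) {x : N} (hx : x ≠ 1)
    (hr : (orderOf x).Coprime r) : w x ≠ x := by
  intro hf
  obtain ⟨k, hk⟩ := h.orderOf_pow
  have hcomm : Commute (MulAut.conj x) w := by
    show MulAut.conj x * w = w * MulAut.conj x
    rw [Coset.mul_conj, hf]
  obtain ⟨j, hj⟩ := h.pow x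
  have hinj : orderOf (MulAut.conj x) = orderOf x := by
    refine orderOf_injective (MulAut.conj : N →* MulAut N) ?_ x
    rw [injective_iff_map_eq_one]
    intro y hy
    apply hZ y
    intro z
    have := DFunLike.congr_fun hy z
    rw [MulAut.conj_apply, MulAut.one_apply] at this
    calc y * z = y * z * y⁻¹ * y := by group
      _ = z * y := by rw [this]
  have hcop : (orderOf (MulAut.conj x)).Coprime (orderOf w) := by
    rw [hinj, hk]
    exact Nat.Coprime.pow_right _ hr
  have h1 := hcomm.orderOf_mul_eq_mul_orderOf_of_coprime hcop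
  rw [hj, hinj] at h1
  have h2 : orderOf x ∣ r ^ j := ⟨_, h1⟩
  have h3 : orderOf x = 1 := by
    have : (orderOf x).Coprime (r ^ j) := Nat.Coprime.pow_right _ hr
    exact Nat.Coprime.eq_one_of_dvd this h2
  exact hx (orderOf_eq_one_iff.1 h3)

/-- `w` moves the class of every element `x ≠ 1` of order prime to `r`. -/
theorem not_isConj (h : AllR r w) (hZ : ∀ x : N, (∀ y, x * y = y * x) → x = 1) {x : N} (hx : x ≠ 1)
    (hr : (orderOf x).Coprime r) : ¬ IsConj x (w x) := by
  rw [isConj_iff]
  rintro ⟨c, hc⟩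
  refine (h.conj_mul c⁻¹).not_fix hZ hx hr ?_
  rw [MulAut.mul_apply, MulAut.conj_apply, ← hc]
  group

/-- `r` divides every exponent of `w`. -/
theorem dvd_of_pow (h : AllR r w) {m : ℕ} (hm : w ^ m = 1) : r ∣ m := by
  obtain ⟨k, hk⟩ := h.orderOf_pow
  have h1 : orderOf w ∣ m := orderOf_dvd_of_pow_eq_one hm
  refine dvd_trans ?_ h1
  rw [hk]
  refine dvd_pow_self r ?_
  rintro rfl
  rw [pow_zero, orderOf_eq_one_iff] at hk
  exact h.ne_one hk

theorem eq_two (h : AllR r w) (h2 : w ^ 2 = 1) : r = 2 :=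
  (Nat.prime_dvd_prime_iff_eq h.prime Nat.prime_two).1 (h.dvd_of_pow h2)

theorem not_fix_pow (h : AllR r w) (hZ : ∀ x : N, (∀ y, x * y = y * x) → x = 1) {x : N} (hx : x ≠ 1) {m : ℕ}
    (hm : x ^ m = 1) (hr : m.Coprime r) : w x ≠ x :=
  h.not_fix hZ hx (Nat.Coprime.coprime_dvd_left (orderOf_dvd_of_pow_eq_one hm) hr)

theorem not_isConj_pow (h : AllR r w) (hZ : ∀ x : N, (∀ y, x * y = y * x) → x = 1) {x : N} (hx : x ≠ 1) {m : ℕ}
    (hm : x ^ m = 1) (hr : m.Coprime r) : ¬ IsConj x (w x) :=
  h.not_isConj hZ hx (Nat.Coprime.coprime_dvd_left (orderOf_dvd_of_pow_eq_one hm) hr)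

/-- Transport along an isomorphism. -/
theorem congr {N' : Type v} [Group N'] (e : N ≃* N') (h : AllR r w) :
    AllR r (MulAut.congr e w) where
  prime := h.prime
  outer := by
    rintro ⟨m, hm⟩
    apply h.outer
    refine ⟨e.symm m, ?_⟩
    ext x
    have := DFunLike.congr_fun hm (e x)
    simp only [MulAut.conj_apply, MulAut.congr_apply, MulEquiv.trans_apply, MulEquiv.symm_apply_apply] at this
    rw [MulAut.conj_apply]
    apply e.injective
    rw [map_mul, map_mul, map_inv, MulEquiv.apply_symm_apply]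
    exact this
  pow n := by
    obtain ⟨k, hk⟩ := h.pow (e.symm n)
    refine ⟨k, ?_⟩
    rw [← hk]
    have h1 : MulAut.conj n * MulAut.congr e w = MulAut.congr e (MulAut.conj (e.symm n) * w) := by
      ext x
      simp [MulAut.congr_apply, MulAut.mul_apply, MulAut.conj_apply, map_mul, map_inv]
    rw [h1]
    exact orderOf_injective (MulAut.congr e).toMonoidHom (MulAut.congr e).injective _

end AllR

/-- Simple groups have no centre. -/
theorem center_triv {N : Type u} [Group N] [IsSimpleGroup N] (hna : ¬ IsMulCommutative N) :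
    ∀ x : N, (∀ y, x * y = y * x) → x = 1 := by
  intro x hx
  have hxZ : x ∈ Subgroup.center N := Subgroup.mem_center_iff.2 fun g => (hx g).symm
  rcases (inferInstance : (Subgroup.center N).Normal).eq_bot_or_eq_top with h1 | h1
  · rwa [h1, Subgroup.mem_bot] at hxZ
  · exfalso
    apply hna
    refine ⟨⟨fun a b => ?_⟩⟩
    have h2 : b ∈ Subgroup.center N := by rw [h1]; trivial
    exact Subgroup.mem_center_iff.1 h2 a

end Cfsg.Agent.H214.Coset
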