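import Cfsg.Agent.H214.Coset
import Cfsg.Agent.S2119

/-!
# S3902 for the alternating groups (degree `≠ 6`)
-/

set_option autoImplicit false

namespace Cfsg.Agent.H214.CosetAlt

open Cfsg.Agent.H214.Coset Equiv

theorem alt {n : ℕ} (hn : 5 ≤ n) (h6 : n ≠ 6) {r : ℕ} {w : MulAut ↥(alternatingGroup (Fin n))} (h : AllR r w) :
    False := by
  obtain ⟨σ, rfl⟩ := (Cfsg.Agent.S2119.result n (by omega) h6).2 w
  have hodd : Perm.sign σ = -1 := by
    rcases Int.units_eq_one_or (Perm.sign σ) with h1 | h1
    · exfalso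
      apply h.outer
      refine ⟨⟨σ, Perm.mem_alternatingGroup.2 h1⟩, ?_⟩
      ext x
      simp [MulAut.conj_apply, MulAut.conjNormal_apply]
    · exact h1
  let i0 : Fin n := ⟨0, by omega⟩
  let i1 : Fin n := ⟨1, by omega⟩
  let i2 : Fin n := ⟨2, by omega⟩
  let i3 : Fin n := ⟨3, by omega⟩
  let i4 : Fin n := ⟨4, by omega⟩
  have h01 : i0 ≠ i1 := by simp [i0, i1]
  have h02 : i0 ≠ i2 := by simp [i0, i2]
  have h03 : i0 ≠ i3 := by simp [i0, i3]
  have h04 : i0 ≠ i4 := by simp [i0, i4]
  have h12 : i1 ≠ i2 := by simp [i1, i2]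
  have h13 : i1 ≠ i3 := by simp [i1, i3]
  have h14 : i1 ≠ i4 := by simp [i1, i4]
  have h23 : i2 ≠ i3 := by simp [i2, i3]
  have h24 : i2 ≠ i4 := by simp [i2, i4]
  have h34 : i3 ≠ i4 := by simp [i3, i4]
  set τ : Perm (Fin n) := swap i0 i1 with hτ
  have hτs : Perm.sign τ = -1 := Perm.sign_swap h01
  have hmem : τ * σ⁻¹ ∈ alternatingGroup (Fin n) := by
    rw [Perm.mem_alternatingGroup, map_mul, Perm.sign_inv, hτs, hodd]
    norm_num
  have h1 := h.conj_mul ⟨τ * σ⁻¹, hmem⟩
  have e : (MulAut.conj (⟨τ * σ⁻¹, hmem⟩ : alternatingGroup (Fin n)) * MulAut.conjNormal σ :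
      MulAut ↥(alternatingGroup (Fin n))) = MulAut.conjNormal τ := by
    apply MulEquiv.ext
    intro x
    apply Subtype.ext
    rw [MulAut.mul_apply, MulAut.conj_apply, MulAut.conjNormal_apply]
    simp only [Subgroup.coe_mul, MulAut.conjNormal_apply, InvMemClass.coe_inv]
    group
  rw [e] at h1
  have h2 : r = 2 := by
    apply h1.eq_two
    rw [← map_pow, hτ, pow_two, swap_mul_self, map_one]
  subst h2
  set x : Perm (Fin n) := swap i2 i3 * swap i3 i4 with hx
  have hxs : x ∈ alternatingGroup (Fin n) := by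
    rw [Perm.mem_alternatingGroup, hx, map_mul, Perm.sign_swap h23, Perm.sign_swap h34]
    norm_num
  have hx1 : x ≠ 1 := by
    intro hx1
    have := congrArg (fun f : Perm (Fin n) => f i4) hx1
    simp only [hx, Perm.mul_apply, swap_apply_right, Perm.one_apply] at this
    exact h24 this
  have hcomm : τ * x = x * τ := by
    have d1 : Commute (swap i0 i1) (swap i2 i3) := by
      apply Perm.Disjoint.commute
      intro y
      by_cases hy0 : y = i0
      · right; subst hy0; exact swap_apply_of_ne_of_ne h02 h03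
      · by_cases hy1 : y = i1
        · right; subst hy1; exact swap_apply_of_ne_of_ne h12 h13
        · left; exact swap_apply_of_ne_of_ne hy0 hy1
    have d2 : Commute (swap i0 i1) (swap i3 i4) := by
      apply Perm.Disjoint.commute
      intro y
      by_cases hy0 : y = i0
      · right; subst hy0; exact swap_apply_of_ne_of_ne h03 h04
      · by_cases hy1 : y = i1
        · right; subst hy1; exact swap_apply_of_ne_of_ne h13 h14
        · left; exact swap_apply_of_ne_of_ne hy0 hy1
    exact (d1.mul_right d2).eq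
  have hx3 : x ^ 3 = 1 := by
    ext1 y
    simp only [hx, pow_succ, pow_zero, one_mul, Perm.mul_apply, Perm.one_apply]
    by_cases y2 : y = i2
    · subst y2
      simp [swap_apply_def, h23, h24, h34, h23.symm, h24.symm, h34.symm]
    · by_cases y3 : y = i3
      · subst y3
        simp [swap_apply_def, h23, h24, h34, h23.symm, h24.symm, h34.symm]
      · by_cases y4 : y = i4
        · subst y4
          simp [swap_apply_def, h23, h24, h34, h23.symm, h24.symm, h34.symm]
        · simp [swap_apply_def, y2, y3, y4]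
  have hZ : ∀ x : ↥(alternatingGroup (Fin n)), (∀ y, x * y = y * x) → x = 1 := by
    have hs : IsSimpleGroup ↥(alternatingGroup (Fin n)) := by
      have := alternatingGroup.isSimpleGroup (α := Fin n) (by simpa using hn)
      exact this
    refine center_triv ?_
    intro hc
    have ha : swap i0 i1 * swap i1 i2 ∈ alternatingGroup (Fin n) := by
      rw [Perm.mem_alternatingGroup, map_mul, Perm.sign_swap h01, Perm.sign_swap h12]
      norm_num
    have hb : swap i2 i3 * swap i3 i4 ∈ alternatingGroup (Fin n) := hxs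
    have h5 := hc.is_comm.comm (⟨_, ha⟩ : ↥(alternatingGroup (Fin n))) ⟨_, hb⟩
    have h6 := congrArg (fun f : ↥(alternatingGroup (Fin n)) => (f : Perm (Fin n)) i4) h5
    simp [swap_apply_def, h01, h02, h03, h04, h12, h13, h14, h23, h24, h34, h01.symm, h02.symm, h03.symm,
      h04.symm, h12.symm, h13.symm, h14.symm, h23.symm, h24.symm, h34.symm] at h6
  refine h1.not_fix_pow hZ (x := ⟨x, hxs⟩) (fun h3 => hx1 (congrArg Subtype.val h3)) (m := 3) ?_ (by norm_num) ?_
  · apply Subtype.ext
    rw [SubmonoidClass.coe_pow]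
    exact hx3
  · apply Subtype.ext
    rw [MulAut.conjNormal_apply]
    show τ * x * τ⁻¹ = x
    rw [hcomm, mul_inv_cancel_right]

end Cfsg.Agent.H214.CosetAlt
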