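import Cfsg.Agent.H214.CosetSpor
import Cfsg.Agent.H214.CosetAlt
import Cfsg.Agent.OddHalf.Known

/-!
# S3902: reduction to groups of Lie type (helper214)
-/

set_option autoImplicit false

namespace Cfsg.Agent.H214.CosetMain

open Cfsg Cfsg.Agent.H214.Coset

universe u

variable {N : Type u} [Group N] [Finite N] [IsSimpleGroup N] {r : ℕ} {w : MulAut N}

/-- **A known simple group with an outer coset of `r`-elements is of Lie type.** -/
theorem isLie (hna : ¬ IsMulCommutative N) (hK : IsKnownSimple' N) (h : AllR r w) :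
    ∃ p : ℕ, p.Prime ∧ IsLieTypeChar p N := by
  rcases OddHalf.Known.classify' hna hK with hA | hL | hT | hS
  · obtain ⟨n, hn, ⟨e⟩⟩ := hA
    by_cases h6 : n = 6
    · subst h6
      obtain ⟨F, i1, i2, k, h1, h2, f⟩ := H489.isPSL_alt_six e
      obtain ⟨p, hp⟩ := CharP.exists F
      exact ⟨p, CharP.char_is_prime F p, Or.inl ⟨F, i1, i2, hp, k, h1, h2, f⟩⟩
    · exact (CosetAlt.alt hn h6 (h.congr e)).elim
  · exact hL
  · exact (CosetSpor.tits hna h hT).elim
  · exact (CosetSpor.spor hna h hS).elim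

end Cfsg.Agent.H214.CosetMain
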