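import Mathlib
import Cfsg.Prelude.Def_Classical
import Cfsg.Prelude.Def_LieClassical

/-!
# Signed permutation matrices centralised by all automorphisms modulo inner ones (helper214, S3902)

`Test g m` : `g` is an orthogonal matrix of determinant one over the prime field, `g ^ m = 1`, not scalar, and the
determinants of the matrices (unitary matrices) commuting with `g` are arbitrary.

* `exists_test_three`, `exists_test_two` : such matrices with `m = 3`, `m = 2`, for `n ≥ 3`.
-/

set_option autoImplicit false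
set_option linter.unusedSectionVars false
set_option linter.unusedSimpArgs false

namespace Cfsg.Agent.H214.SgnPerm

open Matrix Equiv

variable {n : ℕ} {F : Type*} [Field F]

/-- signed permutation matrix -/
def sp (σ : Perm (Fin n)) (ε : Fin n → ℤˣ) : Matrix (Fin n) (Fin n) F :=
  Matrix.diagonal (fun i => (((ε i : ℤˣ) : ℤ) : F)) * (1 : Matrix (Fin n) (Fin n) F).submatrix σ id

theorem sp_apply (σ : Perm (Fin n)) (ε : Fin n → ℤˣ) (i j : Fin n) :
    (sp σ ε : Matrix (Fin n) (Fin n) F) i j = (((ε i : ℤˣ) : ℤ) : F) * (if σ i = j then 1 else 0) := by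
  rw [sp, diagonal_mul, submatrix_apply, one_apply, id]

theorem sp_mulVec (σ : Perm (Fin n)) (ε : Fin n → ℤˣ) (u : Fin n → F) :
    (sp σ ε : Matrix (Fin n) (Fin n) F) *ᵥ u = fun i => (((ε i : ℤˣ) : ℤ) : F) * u (σ i) := by
  funext i
  simp only [mulVec, dotProduct, sp_apply, mul_assoc, ite_mul, one_mul, zero_mul]
  rw [← Finset.mul_sum, Finset.sum_ite_eq]
  simp

theorem det_sp (σ : Perm (Fin n)) (ε : Fin n → ℤˣ) :
    (sp σ ε : Matrix (Fin n) (Fin n) F).det = (∏ i, (((ε i : ℤˣ) : ℤ) : F)) * (((Perm.sign σ : ℤˣ) : ℤ) : F) := by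
  rw [sp, det_mul, det_diagonal, det_permute, det_one, mul_one]

theorem map_sp (σ : Perm (Fin n)) (ε : Fin n → ℤˣ) (τ : F ≃+* F) :
    (sp σ ε : Matrix (Fin n) (Fin n) F).map τ = sp σ ε := by
  ext i j
  rw [map_apply, sp_apply, map_mul, map_intCast]
  split_ifs <;> simp

theorem unit_sq (e : ℤˣ) : ((e : ℤ) : F) * ((e : ℤ) : F) = 1 := by
  rcases Int.units_eq_one_or e with h | h <;> simp [h]

theorem sp_orth (σ : Perm (Fin n)) (ε : Fin n → ℤˣ) :
    (sp σ ε : Matrix (Fin n) (Fin n) F) * (sp σ ε)ᵀ = 1 := by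
  ext i j
  simp only [mul_apply, transpose_apply, sp_apply, one_apply]
  have h1 : ∀ k, (((ε i : ℤˣ) : ℤ) : F) * (if σ i = k then 1 else 0) *
      ((((ε j : ℤˣ) : ℤ) : F) * (if σ j = k then 1 else 0)) =
      if σ i = k then ((((ε i : ℤˣ) : ℤ) : F) * (((ε j : ℤˣ) : ℤ) : F) * (if σ j = σ i then 1 else 0)) else 0 := by
    intro k
    by_cases h : σ i = k
    · subst h; simp [mul_assoc]
    · simp [h]
  simp only [h1]
  rw [Finset.sum_ite_eq]
  simp only [Finset.mem_univ, if_true, EmbeddingLike.apply_eq_iff_eq]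
  by_cases h : i = j
  · subst h; simp [unit_sq]
  · rw [if_neg (fun e => h e.symm), mul_zero, if_neg h]

/-- The properties used. -/
structure Test (g : Matrix (Fin n) (Fin n) F) (m : ℕ) : Prop where
  det : g.det = 1
  fix : ∀ τ : F ≃+* F, g.map τ = g
  orth : g * gᵀ = 1
  ord : g ^ m = 1
  ns : ∀ c : F, g ≠ scalar (Fin n) c
  herm : ∀ q : ℕ, (-1 : F) ^ (q + 1) = 1 → ∀ u v, Cfsg.hermForm n F q (g *ᵥ u) (g *ᵥ v) = Cfsg.hermForm n F q u v
  vec : (∃ w : Fin n → F, g *ᵥ w = w ∧ w ⬝ᵥ w ≠ 0 ∧ ∀ i, w i = 0 ∨ w i = 1) ∨ (n = 3 ∧ (3 : F) = 0)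

theorem sp_herm (σ : Perm (Fin n)) (ε : Fin n → ℤˣ) (q : ℕ) (hq : (-1 : F) ^ (q + 1) = 1) (u v : Fin n → F) :
    Cfsg.hermForm n F q ((sp σ ε : Matrix (Fin n) (Fin n) F) *ᵥ u) ((sp σ ε : Matrix (Fin n) (Fin n) F) *ᵥ v) =
      Cfsg.hermForm n F q u v := by
  rw [sp_mulVec, sp_mulVec]
  unfold Cfsg.hermForm
  have h1 : ∀ i, (((ε i : ℤˣ) : ℤ) : F) * u (σ i) * ((((ε i : ℤˣ) : ℤ) : F) * v (σ i)) ^ q = u (σ i) * v (σ i) ^ q := by
    intro i
    rw [mul_pow]
    have h2 : (((ε i : ℤˣ) : ℤ) : F) * (((ε i : ℤˣ) : ℤ) : F) ^ q = 1 := by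
      rw [← pow_succ']
      rcases Int.units_eq_one_or (ε i) with h | h
      · simp [h]
      · simp [h, hq]
    calc _ = ((((ε i : ℤˣ) : ℤ) : F) * (((ε i : ℤˣ) : ℤ) : F) ^ q) * (u (σ i) * v (σ i) ^ q) := by ring
      _ = _ := by rw [h2, one_mul]
  simp only [h1]
  exact Equiv.sum_comp σ (fun i => u i * v i ^ q)

theorem sp_mul (σ τ : Perm (Fin n)) :
    (sp σ 1 : Matrix (Fin n) (Fin n) F) * sp τ 1 = sp (τ * σ) 1 := by
  apply Matrix.mulVec_injective
  funext u
  rw [← mulVec_mulVec, sp_mulVec, sp_mulVec, sp_mulVec]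
  funext i
  simp

theorem sp_one : (sp 1 1 : Matrix (Fin n) (Fin n) F) = 1 := by
  apply Matrix.mulVec_injective
  funext u
  rw [sp_mulVec, one_mulVec]
  funext i
  simp

theorem sp_diag_sq (ε : Fin n → ℤˣ) : (sp 1 ε : Matrix (Fin n) (Fin n) F) * sp 1 ε = 1 := by
  apply Matrix.mulVec_injective
  funext u
  rw [← mulVec_mulVec, sp_mulVec, sp_mulVec, one_mulVec]
  funext i
  simp only [Perm.one_apply]
  rw [← mul_assoc, unit_sq, one_mul]

section

variable (hn : 3 ≤ n)

include hn

theorem exists_test_three : ∃ g : Matrix (Fin n) (Fin n) F, Test g 3 := by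
  let i0 : Fin n := ⟨0, by omega⟩
  let i1 : Fin n := ⟨1, by omega⟩
  let i2 : Fin n := ⟨2, by omega⟩
  have h01 : i0 ≠ i1 := by simp [i0, i1]
  have h02 : i0 ≠ i2 := by simp [i0, i2]
  have h12 : i1 ≠ i2 := by simp [i1, i2]
  set σ : Perm (Fin n) := swap i0 i1 * swap i1 i2 with hσ
  have e0 : σ i0 = i1 := by simp [hσ, swap_apply_def, h01, h02, h12, h01.symm, h02.symm, h12.symm]
  have e1 : σ i1 = i2 := by simp [hσ, swap_apply_def, h01, h02, h12, h01.symm, h02.symm, h12.symm]
  have e2 : σ i2 = i0 := by simp [hσ, swap_apply_def, h01, h02, h12, h01.symm, h02.symm, h12.symm]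
  have eo : ∀ i, i ≠ i0 → i ≠ i1 → i ≠ i2 → σ i = i := by
    intro i a b c
    simp [hσ, swap_apply_def, a, b, c]
  have hs : Perm.sign σ = 1 := by
    rw [hσ, map_mul, Perm.sign_swap h01, Perm.sign_swap h12]; norm_num
  have h3 : σ * (σ * σ) = 1 := by
    ext1 i
    simp only [Perm.mul_apply, Perm.one_apply]
    by_cases a : i = i0
    · subst a; rw [e0, e1, e2]
    · by_cases b : i = i1
      · subst b; rw [e1, e2, e0]
      · by_cases c : i = i2
        · subst c; rw [e2, e0, e1]
        · rw [eo i a b c, eo i a b c, eo i a b c]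
  refine ⟨sp σ 1, ?_, map_sp σ 1, sp_orth σ 1, ?_, ?_, fun q hq => sp_herm σ 1 q hq, ?_⟩
  · rw [det_sp, hs]; simp
  · rw [pow_succ, pow_two, sp_mul, sp_mul, h3, sp_one]
  · intro c hc
    have := congrFun (congrFun hc i0) i1
    rw [sp_apply, e0, scalar_apply, diagonal_apply_ne _ h01] at this
    simp at this
  · by_cases h4 : n = 3
    · subst h4
      by_cases h5 : (3 : F) = 0
      · exact Or.inr ⟨rfl, h5⟩
      · refine Or.inl ⟨fun _ => 1, ?_, ?_, fun _ => Or.inr rfl⟩
        · rw [sp_mulVec]; simp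
        · simp [dotProduct, h5]
    · left
      let i3 : Fin n := ⟨3, by omega⟩
      refine ⟨Pi.single i3 1, ?_, ?_, fun i => ?_⟩
      · rw [sp_mulVec]
        funext i
        have e3 : σ i3 = i3 := eo i3 (by simp [i3, i0]) (by simp [i3, i1]) (by simp [i3, i2])
        simp only [Pi.one_apply, Units.val_one, Int.cast_one, one_mul, Pi.single_apply]
        by_cases hi : i = i3
        · subst hi; rw [e3]
        · rw [if_neg hi, if_neg]
          intro h
          apply hi
          rw [← e3] at h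
          exact σ.injective h
      · simp
      · rw [Pi.single_apply]
        split_ifs
        · exact Or.inr rfl
        · exact Or.inl rfl

theorem exists_test_two : ∃ g : Matrix (Fin n) (Fin n) F, Test g 2 := by
  let i0 : Fin n := ⟨0, by omega⟩
  let i1 : Fin n := ⟨1, by omega⟩
  let i2 : Fin n := ⟨2, by omega⟩
  have h01 : i0 ≠ i1 := by simp [i0, i1]
  have h02 : i0 ≠ i2 := by simp [i0, i2]
  have h12 : i1 ≠ i2 := by simp [i1, i2]
  by_cases hc2 : (2 : F) = 0
  · set σ : Perm (Fin n) := swap i0 i1 with hσ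
    have hneg : (-1 : F) = 1 := by
      have : (1 : F) + 1 = 0 := by rw [one_add_one_eq_two]; exact hc2
      exact neg_eq_of_add_eq_zero_left this
    refine ⟨sp σ 1, ?_, map_sp σ 1, sp_orth σ 1, ?_, ?_, fun q hq => sp_herm σ 1 q hq, ?_⟩
    · rw [det_sp, hσ, Perm.sign_swap h01]; simp [hneg]
    · rw [pow_two, sp_mul, hσ, Equiv.swap_mul_self, sp_one]
    · intro c hc
      have := congrFun (congrFun hc i0) i1
      rw [sp_apply, hσ, swap_apply_left, scalar_apply, diagonal_apply_ne _ h01] at this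
      simp at this
    · left
      refine ⟨Pi.single i2 1, ?_, ?_, fun i => ?_⟩
      · rw [sp_mulVec]
        funext i
        have e3 : σ i2 = i2 := swap_apply_of_ne_of_ne h02.symm h12.symm
        simp only [Pi.one_apply, Units.val_one, Int.cast_one, one_mul, Pi.single_apply]
        by_cases hi : i = i2
        · subst hi; rw [e3]
        · rw [if_neg hi, if_neg]
          intro h
          apply hi
          rw [← e3] at h
          exact σ.injective h
      · simp
      · rw [Pi.single_apply]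
        split_ifs
        · exact Or.inr rfl
        · exact Or.inl rfl
  · set ε : Fin n → ℤˣ := fun i => if i = i0 ∨ i = i1 then -1 else 1 with hε
    refine ⟨sp 1 ε, ?_, map_sp 1 ε, sp_orth 1 ε, ?_, ?_, fun q hq => sp_herm 1 ε q hq, ?_⟩
    · rw [det_sp]
      have h1 : ∏ i, ε i = 1 := by
        rw [hε, Finset.prod_ite, Finset.prod_const, Finset.prod_const_one, mul_one]
        have : (Finset.univ.filter fun i : Fin n => i = i0 ∨ i = i1) = {i0, i1} := by
          ext i; simp
        rw [this, Finset.card_pair h01]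
        norm_num
      have h2 : (∏ i, (((ε i : ℤˣ) : ℤ) : F)) = ((((∏ i, ε i : ℤˣ)) : ℤ) : F) := by
        push_cast
        rfl
      rw [h2, h1]
      simp
    · rw [pow_two, sp_diag_sq]
    · intro c hc
      have h1 := congrFun (congrFun hc i0) i0
      have h2 := congrFun (congrFun hc i2) i2
      rw [sp_apply, scalar_apply, diagonal_apply_eq] at h1 h2
      simp only [hε, true_or, if_true, Perm.one_apply, h02.symm, h12.symm, or_self, if_false] at h1 h2
      rw [← h2] at h1
      simp at h1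
      apply hc2
      have : (1 : F) + 1 = 0 := by nth_rw 1 [← h1]; ring
      rw [← one_add_one_eq_two]
      exact this
    · left
      refine ⟨Pi.single i2 1, ?_, ?_, fun i => ?_⟩
      · rw [sp_mulVec]
        funext i
        simp only [Perm.one_apply, Pi.single_apply]
        by_cases hi : i = i2
        · subst hi
          simp [hε, h02.symm, h12.symm]
        · rw [if_neg hi, mul_zero]
      · simp
      · rw [Pi.single_apply]
        split_ifs
        · exact Or.inr rfl
        · exact Or.inl rfl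

end

/-! ### Commuting matrices with given determinant -/

variable {g : Matrix (Fin n) (Fin n) F} {m : ℕ}

theorem Test.orth' (h : Test g m) : gᵀ * g = 1 := by
  rw [_root_.mul_eq_one_comm]; exact h.orth

/-- the rank one perturbation -/
theorem comm_rank_one {w : Fin n → F} (h : Test g m) (hw : g *ᵥ w = w) (c : F) :
    (1 + c • vecMulVec w w) * g = g * (1 + c • vecMulVec w w) := by
  have h1 : g * vecMulVec w w = vecMulVec w w := by rw [mul_vecMulVec, hw]
  have h2 : vecMulVec w w * g = vecMulVec w w := by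
    rw [vecMulVec_mul]
    congr 1
    rw [← mulVec_transpose]
    nth_rw 1 [← hw]
    rw [mulVec_mulVec, h.orth', one_mulVec]
  rw [add_mul, mul_add, one_mul, mul_one, smul_mul_assoc, mul_smul_comm, h1, h2]

theorem det_rank_one {w : Fin n → F} (c : F) :
    (1 + c • vecMulVec w w : Matrix (Fin n) (Fin n) F).det = 1 + c * (w ⬝ᵥ w) := by
  have : c • vecMulVec w w = vecMulVec (c • w) w := by
    rw [smul_vecMulVec]
  rw [this, vecMulVec_eq Unit, det_one_add_replicateCol_mul_replicateRow, dotProduct_smul, smul_eq_mul]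

/-- Arbitrary determinants. -/
theorem Test.exists_comm [Finite F] (h : Test g m) {d : F} (hd : d ≠ 0) :
    ∃ D : Matrix (Fin n) (Fin n) F, D.det = d ∧ D * g = g * D := by
  rcases h.vec with ⟨w, hw, hww, -⟩ | ⟨rfl, h3⟩
  · refine ⟨1 + ((d - 1) / (w ⬝ᵥ w)) • vecMulVec w w, ?_, comm_rank_one h hw _⟩
    rw [det_rank_one, div_mul_cancel₀ _ hww]
    ring
  · have hc : CharP F 3 := by
      rw [CharP.charP_iff_prime_eq_zero Nat.prime_three]
      exact_mod_cast h3
    have : Fact (Nat.Prime 3) := ⟨Nat.prime_three⟩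
    have hex : ExpChar F 3 := ExpChar.prime Nat.prime_three
    obtain ⟨a, ha⟩ : ∃ a : F, a ^ 3 = d := by
      have hinj : Function.Injective (frobenius F 3) := frobenius_inj F 3
      exact (Finite.injective_iff_surjective.1 hinj) d
    refine ⟨scalar (Fin 3) a, ?_, ?_⟩
    · rw [scalar_apply, det_diagonal]
      simp [ha]
    · exact (scalar_commute a (fun r => mul_comm _ _) g).eq

end Cfsg.Agent.H214.SgnPerm
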