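import Cfsg.Agent.H214.Coset
import Cfsg.Agent.H214.SgnPerm
import Cfsg.Agent.ClassicalGeometry.AutPSL.Main

/-!
# S3902 for `PSL_n(q)`, `n ≥ 3`
-/

set_option autoImplicit false
set_option linter.unusedSectionVars false

namespace Cfsg.Agent.H214.CosetPSL

open Cfsg.Agent.H214.Coset Cfsg.Agent.H214.SgnPerm Matrix
open Cfsg.Agent.ClassicalGeometry.AutPSL.Root
open Cfsg.Agent.ClassicalGeometry.AutPSL.Auto
open Cfsg.Agent.ClassicalGeometry.AutPSL.Main

variable {n : ℕ} {F : Type*} [Field F] [Fintype F]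

/-- a test element in `SL` -/
def el {g : Matrix (Fin n) (Fin n) F} {m : ℕ} (h : Test g m) : Matrix.SpecialLinearGroup (Fin n) F := ⟨g, h.det⟩

theorem coe_el {g : Matrix (Fin n) (Fin n) F} {m : ℕ} (h : Test g m) :
    (el h : Matrix (Fin n) (Fin n) F) = g := rfl

/-- Every automorphism fixes the class of a test element. -/
theorem isConj_test (p : ℕ) [Fact p.Prime] [CharP F p] (hn : 3 ≤ n) {g : Matrix (Fin n) (Fin n) F} {m : ℕ}
    (h : Test g m) (α : MulAut (Matrix.ProjectiveSpecialLinearGroup (Fin n) F)) :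
    IsConj (pr (el h)) (α (pr (el h))) := by
  set G : Matrix.SpecialLinearGroup (Fin n) F := el h with hG
  have hGinv : ((G⁻¹ : Matrix.SpecialLinearGroup (Fin n) F) : Matrix (Fin n) (Fin n) F) = gᵀ := by
    have h1 : (G : Matrix (Fin n) (Fin n) F) * ((G⁻¹ : Matrix.SpecialLinearGroup (Fin n) F) : Matrix (Fin n) (Fin n) F) = 1 := by
      rw [← Matrix.SpecialLinearGroup.coe_mul, mul_inv_cancel, Matrix.SpecialLinearGroup.coe_one]
    have h2 : g * gᵀ = 1 := h.orth
    have h3 : gᵀ * g = 1 := h.orth'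
    calc ((G⁻¹ : Matrix.SpecialLinearGroup (Fin n) F) : Matrix (Fin n) (Fin n) F)
        = (gᵀ * g) * ((G⁻¹ : Matrix.SpecialLinearGroup (Fin n) F) : Matrix (Fin n) (Fin n) F) := by rw [h3, one_mul]
      _ = gᵀ * (g * ((G⁻¹ : Matrix.SpecialLinearGroup (Fin n) F) : Matrix (Fin n) (Fin n) F)) := by rw [mul_assoc]
      _ = gᵀ := by rw [show g * ((G⁻¹ : Matrix.SpecialLinearGroup (Fin n) F) : Matrix (Fin n) (Fin n) F) = 1 from h1, mul_one]
  have hfld : ∀ σ : F ≃+* F, fld σ G = G := by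
    intro σ
    apply Subtype.ext
    ext i j
    rw [coe_fld_apply]
    exact congrFun (congrFun (h.fix σ) i) j
  have hitr : itr G = G := by
    apply Subtype.ext
    rw [coe_itr, hGinv, transpose_transpose]
    rfl
  have hcj : ∀ A : GL (Fin n) F, IsConj (pr G) (pr (cj A G)) := by
    intro A
    have hdet : (A : Matrix (Fin n) (Fin n) F).det ≠ 0 := by
      have := (Matrix.isUnit_iff_isUnit_det _).1 A.isUnit
      exact this.ne_zero
    obtain ⟨D, hD, hDg⟩ := h.exists_comm hdet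
    set D' : GL (Fin n) F := Matrix.GeneralLinearGroup.mkOfDetNeZero D (by rw [hD]; exact hdet) with hD'
    have hDD : (D' : Matrix (Fin n) (Fin n) F) = D := rfl
    have hB : ((A * D'⁻¹ : GL (Fin n) F) : Matrix (Fin n) (Fin n) F).det = 1 := by
      have h1 : ((A * D'⁻¹ * D' : GL (Fin n) F) : Matrix (Fin n) (Fin n) F).det = (A : Matrix (Fin n) (Fin n) F).det := by
        rw [inv_mul_cancel_right]
      rw [Units.val_mul, det_mul, hDD, hD] at h1
      exact mul_right_cancel₀ hdet (by rw [h1, one_mul])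
    rw [isConj_iff]
    let B : Matrix.SpecialLinearGroup (Fin n) F := ⟨_, hB⟩
    refine ⟨pr B, ?_⟩
    rw [← map_mul, ← map_inv, ← map_mul]
    congr 1
    rw [mul_inv_eq_iff_eq_mul]
    apply Subtype.ext
    rw [Matrix.SpecialLinearGroup.coe_mul, Matrix.SpecialLinearGroup.coe_mul, coe_cj]
    show ((A * D'⁻¹ : GL (Fin n) F) : Matrix (Fin n) (Fin n) F) * g =
      (A : Matrix (Fin n) (Fin n) F) * g * ((A⁻¹ : GL (Fin n) F) : Matrix (Fin n) (Fin n) F) *
        ((A * D'⁻¹ : GL (Fin n) F) : Matrix (Fin n) (Fin n) F)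
    have h2 : ((D'⁻¹ : GL (Fin n) F) : Matrix (Fin n) (Fin n) F) * g =
        g * ((D'⁻¹ : GL (Fin n) F) : Matrix (Fin n) (Fin n) F) := by
      have e1 : ((D'⁻¹ : GL (Fin n) F) : Matrix (Fin n) (Fin n) F) * D = 1 := by
        rw [← hDD, ← Units.val_mul, inv_mul_cancel, Units.val_one]
      have e2 : D * ((D'⁻¹ : GL (Fin n) F) : Matrix (Fin n) (Fin n) F) = 1 := by
        rw [← hDD, ← Units.val_mul, mul_inv_cancel, Units.val_one]
      calc ((D'⁻¹ : GL (Fin n) F) : Matrix (Fin n) (Fin n) F) * g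
          = ((D'⁻¹ : GL (Fin n) F) : Matrix (Fin n) (Fin n) F) * (g * D) *
              ((D'⁻¹ : GL (Fin n) F) : Matrix (Fin n) (Fin n) F) := by
            rw [mul_assoc, mul_assoc, e2, mul_one]
        _ = ((D'⁻¹ : GL (Fin n) F) : Matrix (Fin n) (Fin n) F) * (D * g) *
              ((D'⁻¹ : GL (Fin n) F) : Matrix (Fin n) (Fin n) F) := by rw [hDg]
        _ = _ := by rw [← mul_assoc, e1, one_mul]
    have h3 : ((A⁻¹ : GL (Fin n) F) : Matrix (Fin n) (Fin n) F) * (A : Matrix (Fin n) (Fin n) F) = 1 := by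
      rw [← Units.val_mul, inv_mul_cancel, Units.val_one]
    rw [Units.val_mul, mul_assoc, h2]
    calc (A : Matrix (Fin n) (Fin n) F) * (g * ((D'⁻¹ : GL (Fin n) F) : Matrix (Fin n) (Fin n) F))
        = (A : Matrix (Fin n) (Fin n) F) * g * 1 * ((D'⁻¹ : GL (Fin n) F) : Matrix (Fin n) (Fin n) F) := by
          rw [mul_one, mul_assoc]
      _ = _ := by rw [← h3]; simp only [mul_assoc]
  rcases surj_three p hn α with ⟨A, σ, rfl⟩ | ⟨A, σ, rfl⟩
  · rw [lift_pr, MulAut.mul_apply, hfld]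
    exact hcj A
  · rw [lift_pr, MulAut.mul_apply, MulAut.mul_apply, hitr, hfld]
    exact hcj A

theorem pr_ne_one {g : Matrix (Fin n) (Fin n) F} {m : ℕ} (h : Test g m) :
    pr (el h) ≠ 1 := by
  intro h1
  rw [pr_eq_one_iff, Matrix.SpecialLinearGroup.mem_center_iff] at h1
  obtain ⟨c, -, hc⟩ := h1
  exact h.ns c hc.symm

theorem pr_pow {g : Matrix (Fin n) (Fin n) F} {m : ℕ} (h : Test g m) :
    pr (el h) ^ m = 1 := by
  rw [← map_pow]
  have : (el h) ^ m = 1 := by
    apply Subtype.ext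
    rw [Matrix.SpecialLinearGroup.coe_pow, Matrix.SpecialLinearGroup.coe_one]
    exact h.ord
  rw [this, map_one]

theorem psl (p : ℕ) [Fact p.Prime] [CharP F p] (hn : 3 ≤ n) {r : ℕ}
    {w : MulAut (Matrix.ProjectiveSpecialLinearGroup (Fin n) F)} (h : AllR r w)
    (hZ : ∀ x : Matrix.ProjectiveSpecialLinearGroup (Fin n) F, (∀ y, x * y = y * x) → x = 1) : False := by
  by_cases hr : r = 2
  · subst hr
    obtain ⟨g, hg⟩ := exists_test_three (F := F) hn
    exact h.not_isConj_pow hZ (pr_ne_one hg) (pr_pow hg) (by norm_num) (isConj_test p hn hg w)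
  · obtain ⟨g, hg⟩ := exists_test_two (F := F) hn
    exact h.not_isConj_pow hZ (pr_ne_one hg) (pr_pow hg)
      ((Nat.coprime_primes Nat.prime_two h.prime).2 (Ne.symm hr)) (isConj_test p hn hg w)

end Cfsg.Agent.H214.CosetPSL
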