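import Cfsg.Agent.H214.Coset
import Cfsg.Agent.H214.SgnPerm
import Cfsg.Agent.ClassicalGeometry.PSUAutMain
import Cfsg.Agent.LieClassical.GUOrder

/-!
# S3902 for `PSU_n(q)`, `n ≥ 3`
-/

set_option autoImplicit false
set_option linter.unusedSectionVars false

namespace Cfsg.Agent.H214.CosetPSU

open Cfsg Cfsg.Agent.H214.Coset Cfsg.Agent.H214.SgnPerm Matrix
open Cfsg.Agent.LieClassical.HermBasic Cfsg.Agent.LieClassical.HermSiegel
  Cfsg.Agent.LieClassical.SUBasic
  Cfsg.Agent.ClassicalGeometry.UnitAutBasic Cfsg.Agent.LieClassical.FieldTransfer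
  Cfsg.Agent.ClassicalGeometry.PSUAutCount

variable {n q : ℕ} {F : Type*} [Field F] [Fintype F]

theorem neg_one_pow (hF : Fintype.card F = q ^ 2) : (-1 : F) ^ (q + 1) = 1 := by
  have h1 := add_pow_q hF (1 : F) (-1)
  have hq : q ≠ 0 := by
    rintro rfl
    simp at hF
  rw [add_neg_cancel, zero_pow hq, one_pow] at h1
  rw [pow_succ]
  have h2 : (-1 : F) ^ q = -1 := (neg_eq_of_add_eq_zero_right h1.symm).symm
  rw [h2]; ring

/-- a test element in `SU` -/
def el (hF : Fintype.card F = q ^ 2) {g : Matrix (Fin n) (Fin n) F} {m : ℕ} (h : Test g m) : SU n F q :=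
  mkSU g h.det (h.herm q (neg_one_pow hF))

theorem mat_el (hF : Fintype.card F = q ^ 2) {g : Matrix (Fin n) (Fin n) F} {m : ℕ} (h : Test g m) :
    mat (el hF h) = g := rfl

theorem herm_rank_one (hF : Fintype.card F = q ^ 2) {w : Fin n → F} (hw : ∀ i, w i = 0 ∨ w i = 1)
    (hs : w ⬝ᵥ w ≠ 0) {d : F} (hd : d ^ (q + 1) = 1) (u v : Fin n → F) :
    hermForm n F q ((1 + ((d - 1) / (w ⬝ᵥ w)) • vecMulVec w w) *ᵥ u)
      ((1 + ((d - 1) / (w ⬝ᵥ w)) • vecMulVec w w) *ᵥ v) = hermForm n F q u v := by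
  have hq : q ≠ 0 := by
    rintro rfl
    simp at hF
  set s := w ⬝ᵥ w with hs'
  set c := (d - 1) / s with hc
  have hwq : ∀ i, w i ^ q = w i := by
    intro i
    rcases hw i with h | h
    · rw [h, zero_pow hq]
    · rw [h, one_pow]
  have hww : ∀ i, w i * w i = w i := by
    intro i
    rcases hw i with h | h <;> rw [h] <;> simp
  let fr : F →+* F := { toFun := fun x => x ^ q, map_one' := one_pow q, map_mul' := fun x y => mul_pow x y q,
                        map_zero' := zero_pow hq, map_add' := fun x y => add_pow_q hF x y }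
  have hfr : ∀ x, fr x = x ^ q := fun _ => rfl
  have hsq : s ^ q = s := by
    rw [← hfr, hs', dotProduct, map_sum]
    refine Finset.sum_congr rfl fun i _ => ?_
    rw [map_mul, hfr, hwq]
  have hmv : ∀ x : Fin n → F, (1 + c • vecMulVec w w) *ᵥ x = x + (c * (w ⬝ᵥ x)) • w := by
    intro x
    rw [add_mulVec, one_mulVec, smul_mulVec, vecMulVec_mulVec, op_smul_eq_smul, smul_smul]
  rw [hmv, hmv]
  unfold hermForm
  set a := w ⬝ᵥ u with ha
  set b := w ⬝ᵥ v with hb
  have hbq : b ^ q = ∑ i, w i * v i ^ q := by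
    rw [← hfr, hb, dotProduct, map_sum]
    refine Finset.sum_congr rfl fun i _ => ?_
    rw [map_mul, hfr, hfr, hwq]
  have hterm : ∀ i, (u + (c * a) • w) i * ((v + (c * b) • w) i) ^ q =
      u i * v i ^ q + (c * a) * (w i * v i ^ q) + (c * b) ^ q * (w i * u i) + (c * a) * (c * b) ^ q * (w i * w i) := by
    intro i
    simp only [Pi.add_apply, Pi.smul_apply, smul_eq_mul]
    rw [add_pow_q hF, mul_pow (c * b) (w i), hwq]
    ring
  simp only [hterm]
  rw [Finset.sum_add_distrib, Finset.sum_add_distrib, Finset.sum_add_distrib, ← Finset.mul_sum, ← Finset.mul_sum,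
    ← Finset.mul_sum]
  have e1 : ∑ i, w i * u i = a := rfl
  have e2 : ∑ i, w i * w i = s := rfl
  rw [e1, e2, ← hbq]
  have hcs : c * s = d - 1 := div_mul_cancel₀ _ hs
  have hcsq : c ^ q * s = d ^ q - 1 := by
    have h1 : (c * s) ^ q = (d - 1) ^ q := by rw [hcs]
    rw [mul_pow, hsq] at h1
    rw [h1, ← hfr, map_sub, map_one, hfr]
  have hdd : d * d ^ q = 1 := by rw [← pow_succ']; exact hd
  have key : c + c ^ q + c * c ^ q * s = 0 := by
    apply mul_right_cancel₀ hs
    calc (c + c ^ q + c * c ^ q * s) * s = c * s + c ^ q * s + (c * s) * (c ^ q * s) := by ring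
      _ = (d - 1) + (d ^ q - 1) + (d - 1) * (d ^ q - 1) := by rw [hcs, hcsq]
      _ = d * d ^ q - 1 := by ring
      _ = 0 * s := by rw [hdd]; ring
  have e3 : (c * b) ^ q = c ^ q * b ^ q := mul_pow c b q
  rw [e3]
  have : c * a * b ^ q + c ^ q * b ^ q * a + c * a * (c ^ q * b ^ q) * s =
      a * b ^ q * (c + c ^ q + c * c ^ q * s) := by ring
  rw [add_assoc, add_assoc, ← add_assoc (c * a * b ^ q), this, key, mul_zero, add_zero]

/-- Unitary matrices of arbitrary determinant commuting with a test element. -/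
theorem exists_comm (hF : Fintype.card F = q ^ 2) {g : Matrix (Fin n) (Fin n) F} {m : ℕ} (h : Test g m) {d : F}
    (hd : d ^ (q + 1) = 1) : ∃ D : GU n F q, (gm D).det = d ∧ gm D * g = g * gm D := by
  rcases h.vec with ⟨w, hw, hww, hw01⟩ | ⟨rfl, h3⟩
  · refine ⟨LieClassical.GUOrder.mkGU hF (1 + ((d - 1) / (w ⬝ᵥ w)) • vecMulVec w w)
      (herm_rank_one hF hw01 hww hd), ?_, comm_rank_one h hw _⟩
    show (1 + ((d - 1) / (w ⬝ᵥ w)) • vecMulVec w w).det = d
    rw [det_rank_one, div_mul_cancel₀ _ hww]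
    ring
  · have hc : CharP F 3 := by
      rw [CharP.charP_iff_prime_eq_zero Nat.prime_three]
      exact_mod_cast h3
    have : Fact (Nat.Prime 3) := ⟨Nat.prime_three⟩
    have hex : ExpChar F 3 := ExpChar.prime Nat.prime_three
    have hinj : Function.Injective (frobenius F 3) := frobenius_inj F 3
    obtain ⟨a, ha⟩ : ∃ a : F, a ^ 3 = d := (Finite.injective_iff_surjective.1 hinj) d
    have haq : a ^ (q + 1) = 1 := by
      apply hinj
      show (a ^ (q + 1)) ^ 3 = 1 ^ 3
      rw [one_pow, ← pow_mul, mul_comm, pow_mul, ha, hd]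
    refine ⟨LieClassical.GUOrder.mkGU hF (scalar (Fin 3) a) ?_, ?_, ?_⟩
    · intro u v
      unfold hermForm
      refine Finset.sum_congr rfl fun i _ => ?_
      have e : ∀ x : Fin 3 → F, (scalar (Fin 3) a *ᵥ x) i = a * x i := by
        intro x
        rw [scalar_apply, mulVec_diagonal]
      rw [e, e, mul_pow]
      calc a * u i * (a ^ q * v i ^ q) = a ^ (q + 1) * (u i * v i ^ q) := by rw [pow_succ]; ring
        _ = _ := by rw [haq, one_mul]
    · show (scalar (Fin 3) a).det = d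
      rw [scalar_apply, det_diagonal]
      simp [ha]
    · exact (scalar_commute a (fun r => mul_comm _ _) g).eq

/-- Every automorphism fixes the class of a test element. -/
theorem isConj_test (hF : Fintype.card F = q ^ 2) (hn : 3 ≤ n) (h32 : ¬ (n = 3 ∧ q = 2))
    {g : Matrix (Fin n) (Fin n) F} {m : ℕ} (h : Test g m) (α : MulAut (PSU n F q)) :
    IsConj (pr n F q (el hF h)) (α (pr n F q (el hF h))) := by
  obtain ⟨A, ρ, rfl⟩ := ClassicalGeometry.PSUAutMain.exists_toAut hF hn h32 α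
  have hfix : suCongr n q ρ (el hF h) = el hF h := by
    apply mat_injective
    ext i j
    exact congrFun (congrFun (h.fix ρ) i) j
  have hsemi : semiConj A ρ (el hF h) = guConj A (el hF h) := by
    show guConj A (suCongr n q ρ (el hF h)) = _
    rw [hfix]
  rw [toAut_pr, hsemi]
  have hdA : (gm A).det ^ (q + 1) = 1 := LieClassical.GUOrder.det_mul_frob_det hF _ (fun u v => herm_gm A u v)
  obtain ⟨D, hD, hDg⟩ := exists_comm hF h hdA
  have hdA0 : (gm A).det ≠ 0 := by
    intro h0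
    rw [h0, zero_pow (Nat.succ_ne_zero q)] at hdA
    exact zero_ne_one hdA
  have hB : (gm (A * D⁻¹)).det = 1 := by
    have h1 : (gm (A * D⁻¹ * D)).det = (gm A).det := by rw [inv_mul_cancel_right]
    rw [gm_mul, det_mul, hD] at h1
    exact mul_right_cancel₀ hdA0 (by rw [h1, one_mul])
  let b : SU n F q := mkSU (gm (A * D⁻¹)) hB (fun u v => herm_gm (A * D⁻¹) u v)
  have hb : mat b = gm (A * D⁻¹) := rfl
  rw [isConj_iff]
  refine ⟨pr n F q b, ?_⟩
  rw [← map_mul, ← map_inv, ← map_mul]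
  congr 1
  rw [mul_inv_eq_iff_eq_mul]
  apply mat_injective
  rw [mat_mul, mat_mul, hb, mat_el]
  show gm (A * D⁻¹) * g = (gm A * mat (el hF h) * gm A⁻¹) * gm (A * D⁻¹)
  rw [mat_el, gm_mul]
  have h2 : gm D⁻¹ * g = g * gm D⁻¹ := by
    calc gm D⁻¹ * g = gm D⁻¹ * (g * gm D) * gm D⁻¹ := by
            rw [mul_assoc, mul_assoc, gm_mul_inv, mul_one]
      _ = gm D⁻¹ * (gm D * g) * gm D⁻¹ := by rw [hDg]
      _ = _ := by rw [← mul_assoc, gm_inv_mul, one_mul]
  rw [mul_assoc, h2]
  calc gm A * (g * gm D⁻¹) = gm A * g * 1 * gm D⁻¹ := by rw [mul_one, mul_assoc]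
    _ = _ := by rw [← gm_inv_mul A]; simp only [mul_assoc]

theorem pr_ne_one (hF : Fintype.card F = q ^ 2) (hn : 3 ≤ n) {g : Matrix (Fin n) (Fin n) F} {m : ℕ} (h : Test g m) :
    pr n F q (el hF h) ≠ 1 := by
  intro h1
  replace h1 : el hF h ∈ Subgroup.center (SU n F q) := (QuotientGroup.eq_one_iff _).1 h1
  rw [mem_center_SU_iff hF hn] at h1
  obtain ⟨c, hc1, hc2, hc⟩ := h1
  refine h.ns c ?_
  have h2 := congrArg mat hc
  rw [mat_el] at h2
  rw [h2]
  rfl

theorem pr_pow (hF : Fintype.card F = q ^ 2) {g : Matrix (Fin n) (Fin n) F} {m : ℕ} (h : Test g m) :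
    pr n F q (el hF h) ^ m = 1 := by
  rw [← map_pow]
  have : (el hF h) ^ m = 1 := by
    apply Subtype.ext
    apply Subtype.ext
    rw [SubmonoidClass.coe_pow, Matrix.SpecialLinearGroup.coe_pow]
    exact h.ord
  rw [this, map_one]

theorem psu (hF : Fintype.card F = q ^ 2) (hn : 3 ≤ n) (h32 : ¬ (n = 3 ∧ q = 2)) {r : ℕ}
    {w : MulAut (PSU n F q)} (h : AllR r w) (hZ : ∀ x : PSU n F q, (∀ y, x * y = y * x) → x = 1) : False := by
  by_cases hr : r = 2
  · subst hr
    obtain ⟨g, hg⟩ := exists_test_three (F := F) hn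
    exact h.not_isConj_pow hZ (pr_ne_one hF hn hg) (pr_pow hF hg) (by norm_num) (isConj_test hF hn h32 hg w)
  · obtain ⟨g, hg⟩ := exists_test_two (F := F) hn
    exact h.not_isConj_pow hZ (pr_ne_one hF hn hg) (pr_pow hF hg)
      ((Nat.coprime_primes Nat.prime_two h.prime).2 (Ne.symm hr)) (isConj_test hF hn h32 hg w)

end Cfsg.Agent.H214.CosetPSU
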