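import Cfsg.Agent.H214.CosetBurn
import Cfsg.Agent.H489.OutSpor
import Cfsg.Agent.NotCT.Orders
import Cfsg.Agent.H997.OutHe2
import Cfsg.Agent.S2075
import Cfsg.Agent.H800.Sp.TitsFive

/-!
# S3902 for the sporadic groups and the Tits group (helper214)
-/

set_option autoImplicit false

namespace Cfsg.Agent.H214.CosetSpor

open Cfsg Cfsg.Agent.H214.Coset

universe u

theorem out_congr {N T : Type*} [Group N] [Group T] (h : Nonempty (N ≃* T)) (hT : Nat.card (Out T) = 1) :
    Nat.card (Out N) = 1 := by
  obtain ⟨e⟩ := h
  rw [H55.OutGen.card_out_congr e, hT]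

theorem finite_out {N : Type*} [Group N] [Finite N] : Finite (Out N) := by
  have : Finite (MulAut N) := Finite.of_injective (fun f : MulAut N => (f : N → N)) DFunLike.coe_injective
  exact Quotient.finite _

variable {N : Type u} [Group N] [Finite N] [IsSimpleGroup N] {r : ℕ} {w : MulAut N}

theorem eq_two_spor (h : AllR r w) (hS : IsSporadicGroup N) : r = 2 := by
  have : Finite (Out N) := finite_out
  exact h.eq_two_of_card (H489.card_out_sporadic hS)

theorem prm (hna : ¬ IsMulCommutative N) (h : AllR r w) (hS : IsSporadicGroup N) {m s : ℕ} (hN : Nat.card N = m)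
    (hs : s.Prime) (h4 : s % 4 = 3) (hd : s ∣ m) (hn : ¬ s ^ 2 ∣ m) : False := by
  have h2 := eq_two_spor h hS
  subst h2
  subst hN
  exact h.false_of_prime hna hs h4 hd hn

section He

open Cfsg.Spor Cfsg.Spor.He Cfsg.Agent.SporadicB.HePerm Cfsg.Agent.FixBN.HeStab
open Cfsg.Agent.KFacts.He.Lv Cfsg.Agent.H997.OutHe

theorem b_ne_c : gn .b ≠ gn .c := by
  intro h
  have h1 := congrArg (fun x => ((phi x 0 : Fin 2058) : ℕ)) h
  have h2 := congrArg (fun x => ((phi x 1 : Fin 2058) : ℕ)) h
  have h3 := congrArg (fun x => ((phi x 8 : Fin 2058) : ℕ)) h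
  have h4 := congrArg (fun x => ((phi x 32 : Fin 2058) : ℕ)) h
  rw [← wd_one, ← wd_one] at h1 h2 h3 h4
  simp only [phi_wd_apply] at h1 h2 h3 h4
  revert h1 h2 h3 h4
  decide +kernel

theorem he_mul_self (x : Gen) : gn x * gn x = 1 := by
  have h := pair_pow x x
  have h1 : coxLabel edges x x = 1 := by cases x <;> decide
  rw [h1, pow_one] at h
  exact h

/-- the Held group -/
theorem he {r : ℕ} {w : MulAut Spor.He} (h : AllR r w) : False := by
  have hfin : Finite Spor.He := Nat.finite_of_card_ne_zero (by rw [Cfsg.Agent.S1695.result.2]; norm_num)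
  have hsim := Cfsg.Agent.S1695.result.1
  have hna : ¬ IsMulCommutative Spor.He := by
    intro hc
    have h1 : (Nat.card Spor.He).Prime := by
      let _ : CommGroup Spor.He := { (inferInstance : Group Spor.He) with
        mul_comm := hc.is_comm.comm }
      exact IsSimpleGroup.prime_card
    rw [Cfsg.Agent.S1695.result.2] at h1
    norm_num at h1
  have hZ := center_triv hna
  have hidx : (MulAut.conj : Spor.He →* MulAut Spor.He).range.index = 2 := by
    have := Cfsg.Agent.S2075.result
    rwa [Cfsg.Agent.H997.OutCard.card_out] at this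
  have hr : (rho : MulAut Spor.He) ∉ (MulAut.conj : Spor.He →* MulAut Spor.He).range := by
    rintro ⟨k, hk⟩
    exact rho_outer k hk.symm
  have h1 : (rho : MulAut Spor.He) * w⁻¹ ∈ (MulAut.conj : Spor.He →* MulAut Spor.He).range := by
    rw [Subgroup.mul_mem_iff_of_index_two hidx]
    have h2 := h.outer
    have h3 : w⁻¹ ∉ (MulAut.conj : Spor.He →* MulAut Spor.He).range := fun h4 => h2 ((Subgroup.inv_mem_iff _).1 h4)
    tauto
  obtain ⟨n, hn⟩ := h1
  have hrho : AllR r (rho : MulAut Spor.He) := by
    have h2 := h.conj_mul n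
    rw [hn, inv_mul_cancel_right] at h2
    exact h2
  have hr2 : r = 2 := hrho.eq_two (by rw [sq, rho_sq])
  subst hr2
  have hbc3 : (gn .b * gn .c) ^ 3 = 1 := by
    have h2 := pair_pow .b .c
    have h3 : coxLabel edges .b .c = 3 := by decide
    rw [h3] at h2
    exact h2
  have hne : gn .b * gn .c ≠ 1 := by
    intro h2
    apply b_ne_c
    rw [← mul_right_cancel_iff (a := gn .c), h2, he_mul_self]
  refine hrho.not_fix_pow hZ hne hbc3 (by norm_num) ?_
  rw [map_mul, rho_gn, rho_gn]
  rfl

end He

theorem spor (hna : ¬ IsMulCommutative N) (h : AllR r w) (hS : IsSporadicGroup N) : False := by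
  have hS0 := hS
  rcases hS with hS | hS | hS | hS | hS | hS | hS | hS | hS | hS | hS | hS | hS | hS | hS | hS | hS | hS | hS | hS |
    hS | hS | hS | hS | hS | hS
  · exact h.false_of_card (out_congr hS S2060.result)
  · exact prm hna h hS0 (s := 11) (NotCT.Orders.m12 hS) (by norm_num) (by norm_num) (by norm_num) (by norm_num)
  · exact prm hna h hS0 (s := 7) (NotCT.Orders.m22 hS) (by norm_num) (by norm_num) (by norm_num) (by norm_num)
  · exact h.false_of_card (out_congr hS S2063.result)
  · exact h.false_of_card (out_congr hS S2064.result)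
  · exact h.false_of_card (out_congr hS S2065.result)
  · exact prm hna h hS0 (s := 7) (NotCT.Orders.j2 hS) (by norm_num) (by norm_num) (by norm_num) (by norm_num)
  · exact prm hna h hS0 (s := 19) (NotCT.Orders.j3 hS) (by norm_num) (by norm_num) (by norm_num) (by norm_num)
  · exact h.false_of_card (out_congr hS S2068.result)
  · exact h.false_of_card (out_congr hS S2069.result)
  · exact h.false_of_card (out_congr hS S2070.result)
  · exact h.false_of_card (out_congr hS S2071.result)
  · exact prm hna h hS0 (s := 7) (NotCT.Orders.mcl hS) (by norm_num) (by norm_num) (by norm_num) (by norm_num)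
  · exact prm hna h hS0 (s := 7) (NotCT.Orders.hs hS) (by norm_num) (by norm_num) (by norm_num) (by norm_num)
  · exact prm hna h hS0 (s := 7) (NotCT.Orders.suz hS) (by norm_num) (by norm_num) (by norm_num) (by norm_num)
  · obtain ⟨e⟩ := hS
    exact he (h.congr e)
  · exact h.false_of_card (out_congr hS S2077.result)
  · exact prm hna h hS0 (s := 11) (NotCT.Orders.on hS) (by norm_num) (by norm_num) (by norm_num) (by norm_num)
  · exact h.false_of_card (out_congr hS S2076.result)
  · exact prm hna h hS0 (s := 7) (NotCT.Orders.fi22 hS) (by norm_num) (by norm_num) (by norm_num) (by norm_num)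
  · exact h.false_of_card (out_congr hS S2080.result)
  · exact prm hna h hS0 (s := 11) (NotCT.Orders.fi24 hS) (by norm_num) (by norm_num) (by norm_num) (by norm_num)
  · exact prm hna h hS0 (s := 7) (NotCT.Orders.hn hS) (by norm_num) (by norm_num) (by norm_num) (by norm_num)
  · exact h.false_of_card (out_congr hS S2083.result)
  · exact h.false_of_card (out_congr hS S2084.result)
  · exact h.false_of_card (out_congr hS S2085.result)

/-- the Tits group -/
theorem tits (hna : ¬ IsMulCommutative N) (h : AllR r w) (hS : Lie.IsoTits N) : False := by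
  have : Finite (Out N) := finite_out
  have h2 : r = 2 := h.eq_two_of_card (H489.card_out_tits hS)
  subst h2
  have h1 := H800.Sp.TitsFive.oneClass hS
  have h5 : 5 ∣ Nat.card N := by
    rw [NotCT.Orders.tits hS]
    norm_num
  have hF : Fact (Nat.Prime 5) := ⟨Nat.prime_five⟩
  obtain ⟨x, hx⟩ := exists_prime_orderOf_dvd_card' 5 h5
  have hx1 : x ≠ 1 := by
    rintro rfl
    rw [orderOf_one] at hx
    omega
  refine h.not_isConj (center_triv hna) hx1 (by rw [hx]; norm_num) ?_
  rw [isConj_iff]
  exact h1 x (w x) hx (by rw [MulEquiv.orderOf_eq]; exact hx)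

end Cfsg.Agent.H214.CosetSpor
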